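import Groth.Agent.CohFinite.PushLinear
import Groth.Agent.CohFinite.Linear
import Groth.Agent.RPushQC.Resolution
import Groth.Agent.LCZQC.Acyclic
import Mathlib.RingTheory.Length

/-!
The lengths in the five-term exact sequence of a direct image, in the case without second cohomology.
-/

set_option autoImplicit false
set_option backward.isDefEq.respectTransparency false
set_option linter.style.haveILetI false

universe u

open CategoryTheory CategoryTheory.Limits Opposite TopologicalSpace AlgebraicGeometry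
open Groth.Agent.SiteCoh Groth.Agent.CohFinite

noncomputable section

namespace Groth.Agent.ModLeray1

theorem length_quotient_comp {A I C Q : Type*} [CommRing A] [AddCommGroup I] [Module A I] [AddCommGroup C]
    [Module A C] [AddCommGroup Q] [Module A Q] (p : I →ₗ[A] C) (i : C →ₗ[A] Q) (hi : Function.Injective i) :
    Module.length A (Q ⧸ LinearMap.range (i.comp p)) =
      Module.length A (C ⧸ LinearMap.range p) + Module.length A (Q ⧸ LinearMap.range i) := by
  let f : (C ⧸ LinearMap.range p) →ₗ[A] Q ⧸ LinearMap.range (i.comp p) :=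
    Submodule.mapQ _ _ i (by rintro _ ⟨x, rfl⟩; exact ⟨x, rfl⟩)
  let g : (Q ⧸ LinearMap.range (i.comp p)) →ₗ[A] Q ⧸ LinearMap.range i :=
    Submodule.factor (LinearMap.range_comp_le_range p i)
  refine Module.length_eq_add_of_exact f g ?_ (Submodule.factor_surjective _) ?_
  · rw [injective_iff_map_eq_zero]
    intro c hc
    obtain ⟨c, rfl⟩ := Submodule.Quotient.mk_surjective _ c
    rw [Submodule.mapQ_apply, Submodule.Quotient.mk_eq_zero] at hc
    obtain ⟨x, hx⟩ := hc
    rw [Submodule.Quotient.mk_eq_zero]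
    exact ⟨x, hi hx⟩
  · intro q
    obtain ⟨q, rfl⟩ := Submodule.Quotient.mk_surjective _ q
    constructor
    · intro h
      obtain ⟨c, hc⟩ := (Submodule.Quotient.mk_eq_zero _).1 h
      exact ⟨Submodule.Quotient.mk c, congrArg Submodule.Quotient.mk hc⟩
    · rintro ⟨c, hc⟩
      obtain ⟨c, rfl⟩ := Submodule.Quotient.mk_surjective _ c
      rw [← hc]
      exact (Submodule.Quotient.mk_eq_zero _).2 ⟨c, rfl⟩

variable {X X' : Scheme.{u}}

/-- Global sections as cohomology in degree zero. -/
def z0 (M : X.Modules) : Coh.HH X M 0 ≃+ Γ(M, ⊤) :=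
  (huTerminalEquiv (Opens.grothendieckTopology X) (T := (⊤ : Opens X)) isTerminalTop (Coh.toAb M) 0).trans
    (hu0 (Coh.toAb M) (⊤ : Opens X))

theorem z0_natural {F G : CohTop.Ab X.carrier} (φ : F ⟶ G) (x : Sheaf.H.{u} F 0) :
    hu0 G (⊤ : Opens X) (huTerminalEquiv (Opens.grothendieckTopology X) isTerminalTop G 0 (Sheaf.H.map φ 0 x)) =
      φ.hom.app (op ⊤) (hu0 F (⊤ : Opens X) (huTerminalEquiv (Opens.grothendieckTopology X) isTerminalTop F 0 x)) := by
  rw [ProjCech.huTerminalEquiv_natural, hu0_natural]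

theorem z0_map {M N : X.Modules} (φ : M ⟶ N) (A : Type u) [CommRing A] [X.Over (Spec (CommRingCat.of A))]
    (x : Coh.HH X M 0) : z0 N (hhMap A φ 0 x) = φ.app ⊤ (z0 M x) :=
  z0_natural (toAbMap φ) x

theorem z0_smul (A : Type u) [CommRing A] [X.Over (Spec (CommRingCat.of A))] (M : X.Modules) (a : A)
    (x : Coh.HH X M 0) :
    z0 M (a • x) = (show Γ(X, ⊤) from Coh.toGlobal (X ↘ Spec (CommRingCat.of A)) a) • z0 M x := by
  refine (z0_natural (Coh.smulAb M (Coh.toGlobal (X ↘ Spec (CommRingCat.of A)) a)) x).trans ?_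
  refine congrArg (fun c : Γ(X, ⊤) => c • (show Γ(M, ⊤) from z0 M x)) ?_
  exact Groth.Agent.QC.resO_self le_rfl _

variable (A : Type u) [CommRing A] [X.Over (Spec (CommRingCat.of A))] [X'.Over (Spec (CommRingCat.of A))]
  (g : X' ⟶ X) (hg : g ≫ (X ↘ Spec (CommRingCat.of A)) = X' ↘ Spec (CommRingCat.of A))

/-- Global sections of a direct image. -/
def pushH0 (M : X'.Modules) : Coh.HH X' M 0 ≃ₗ[A] Coh.HH X ((Coh.push g).obj M) 0 where
  toFun x := (z0 ((Coh.push g).obj M)).symm (z0 M x)
  invFun y := (z0 M).symm (z0 ((Coh.push g).obj M) y)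
  left_inv x := by
    change (z0 M).symm (z0 ((Coh.push g).obj M) ((z0 ((Coh.push g).obj M)).symm (z0 M x))) = x
    rw [AddEquiv.apply_symm_apply]; exact (z0 M).symm_apply_apply x
  right_inv y := by
    change (z0 ((Coh.push g).obj M)).symm (z0 M ((z0 M).symm (z0 ((Coh.push g).obj M) y))) = y
    rw [AddEquiv.apply_symm_apply]; exact (z0 _).symm_apply_apply y
  map_add' x y := by
    refine Eq.trans ?_ ((z0 ((Coh.push g).obj M)).symm.map_add (z0 M x) (z0 M y))
    exact congrArg (z0 ((Coh.push g).obj M)).symm ((z0 M).map_add x y)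
  map_smul' r x := by
    apply (z0 ((Coh.push g).obj M)).injective
    refine ((z0 ((Coh.push g).obj M)).apply_symm_apply _).trans ((z0_smul A M r x).trans ?_)
    refine Eq.trans ?_ (z0_smul A ((Coh.push g).obj M) r _).symm
    simp only [RingHom.id_apply, AddEquiv.apply_symm_apply]
    have hr : (show Γ(X', ⊤) from Coh.toGlobal (X' ↘ Spec (CommRingCat.of A)) r) =
        g.appTop (Coh.toGlobal (X ↘ Spec (CommRingCat.of A)) r) := by
      rw [← hg]
      simp only [Coh.toGlobal, Scheme.Hom.comp_appTop]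
      rfl
    exact congrArg (fun c : Γ(X', ⊤) => c • (show Γ(M, ⊤) from z0 M x)) hr

theorem pushH0_natural {M N : X'.Modules} (φ : M ⟶ N) (x : Coh.HH X' M 0) :
    pushH0 A g hg N (hhMap A φ 0 x) = hhMap A ((Coh.push g).map φ) 0 (pushH0 A g hg M x) := by
  apply (z0 ((Coh.push g).obj N)).injective
  refine ((z0 ((Coh.push g).obj N)).apply_symm_apply _).trans ((z0_map φ A x).trans ?_)
  refine Eq.trans ?_ (z0_map ((Coh.push g).map φ) A _).symm
  exact (congrArg (φ.app ⊤) ((z0 ((Coh.push g).obj M)).apply_symm_apply (z0 M x))).symm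

omit [X'.Over (Spec (CommRingCat.of A))] in
theorem subsingleton_hh_flasque {F : CohTop.Ab X.carrier} [TopCat.Sheaf.IsFlasque F] (q : ℕ) :
    Subsingleton (Sheaf.H.{u} F (q + 1)) :=
  haveI := flasque_acyclic F (⊤ : Opens X) q
  (huTerminalEquiv (Opens.grothendieckTopology X) (T := (⊤ : Opens X)) isTerminalTop F (q + 1)).toEquiv.subsingleton

variable [HasInjectiveResolutions X'.Modules] [EnoughInjectives X'.Modules]

include hg in
theorem length_h1_eq (M : X'.Modules) (h2 : Subsingleton (Coh.HH X ((Coh.push g).obj M) 2)) :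
    Module.length A (Coh.HH X' M 1) = Module.length A (Coh.HH X ((Coh.push g).obj M) 1) +
      Module.length A (Coh.HH X ((Coh.Rpush g 1).obj M) 0) := by
  let S : ShortComplex X'.Modules :=
    ShortComplex.mk (Injective.ι M) (cokernel.π (Injective.ι M)) (cokernel.condition _)
  have hS : S.ShortExact :=
    { exact := ShortComplex.exact_of_g_is_cokernel _ (cokernelIsCokernel _)
      mono_f := inferInstanceAs (Mono (Injective.ι M))
      epi_g := inferInstanceAs (Epi (cokernel.π (Injective.ι M))) }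
  haveI : Injective S.X₂ := inferInstanceAs (Injective (Injective.under M))
  let F := Coh.push g
  obtain ⟨e1⟩ := LCZQC.acyc_one F hS (fun q => F.isZero_rightDerived_obj_injective_succ q S.X₂)
  -- the two short exact sequences
  haveI := hS.mono_f
  haveI : Mono (F.map S.f) := inferInstance
  have hSF : (S.map F).Exact := hS.exact.map_of_mono_of_preservesKernel F hS.mono_f inferInstance
  let φ := F.map S.g
  have hz : F.map S.f ≫ Abelian.factorThruImage φ = 0 := by
    rw [← cancel_mono (Abelian.image.ι φ), Category.assoc, Abelian.image.fac, zero_comp, ← F.map_comp, S.zero,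
      F.map_zero]
  let S1 : ShortComplex X.Modules := ShortComplex.mk (F.map S.f) (Abelian.factorThruImage φ) hz
  have hS1 : S1.ShortExact :=
    { exact := by
        let m : S1 ⟶ S.map F := ShortComplex.homMk (𝟙 _) (𝟙 _) (Abelian.image.ι φ) (by simp [S1])
          (by simp [S1, φ])
        haveI : Epi m.τ₁ := inferInstanceAs (Epi (𝟙 _))
        haveI : IsIso m.τ₂ := inferInstanceAs (IsIso (𝟙 _))
        haveI : Mono m.τ₃ := inferInstanceAs (Mono (Abelian.image.ι φ))
        exact (ShortComplex.exact_iff_of_epi_of_isIso_of_mono m).2 hSF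
      mono_f := inferInstanceAs (Mono (F.map S.f))
      epi_g := inferInstanceAs (Epi (Abelian.factorThruImage φ)) }
  let S2 : ShortComplex X.Modules :=
    ShortComplex.mk (Abelian.image.ι φ) (cokernel.π φ) (kernel.condition _)
  have hS2 : S2.ShortExact :=
    { exact := ShortComplex.exact_of_f_is_kernel _ (kernelIsKernel _)
      mono_f := inferInstanceAs (Mono (Abelian.image.ι φ))
      epi_g := inferInstanceAs (Epi (cokernel.π φ)) }
  -- vanishing
  have hfl : TopCat.Sheaf.IsFlasque (Coh.toAb S.X₂) :=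
    RPushQC.isFlasque_toAb (RPushQC.isFlasque_of_injective _)
  haveI := hfl
  haveI : TopCat.Sheaf.IsFlasque ((CohTop.push g.base).obj (Coh.toAb S.X₂)) :=
    TopCat.Sheaf.IsFlasque.pushforward_isFlasque (Coh.toAb S.X₂) g.base
  have hI' : ∀ q, Subsingleton (Coh.HH X' S.X₂ (q + 1)) := fun q => subsingleton_hh_flasque q
  have hI : ∀ q, Subsingleton (Coh.HH X S1.X₂ (q + 1)) := fun q =>
    subsingleton_hh_flasque (F := (CohTop.push g.base).obj (Coh.toAb S.X₂)) q
  have hC1 : Subsingleton (Coh.HH X S1.X₃ 1) := by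
    refine subsingleton_of_forall_eq 0 fun x => ?_
    have h0 : hhδ A hS1 1 x = 0 := (show Subsingleton (Coh.HH X S1.X₁ 2) from h2).elim _ _
    obtain ⟨y, hy⟩ := (δH_eq_zero_iff (shortExact_toAb hS1) 1 x).1 h0
    rw [← hy, show y = 0 from (hI 0).elim _ _]
    exact map_zero _
  -- connecting maps
  have key : ∀ {Y : Scheme.{u}} [Y.Over (Spec (CommRingCat.of A))] {T : ShortComplex Y.Modules}
      (hT : T.ShortExact), Subsingleton (Coh.HH Y T.X₂ 1) →
      Nonempty ((Coh.HH Y T.X₃ 0 ⧸ LinearMap.range (hhMap A T.g 0)) ≃ₗ[A] Coh.HH Y T.X₁ 1) := by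
    intro Y _ T hT h
    have hker : LinearMap.ker (hhδ A hT 0) = LinearMap.range (hhMap A T.g 0) := by
      ext x
      exact δH_eq_zero_iff (shortExact_toAb hT) 0 x
    have hsurj : Function.Surjective (hhδ A hT 0) := fun x =>
      (map_f_eq_zero_iff (shortExact_toAb hT) 0 x).1 (h.elim _ _)
    exact ⟨(Submodule.quotEquivOfEq _ _ hker.symm).trans ((hhδ A hT 0).quotKerEquivOfSurjective hsurj)⟩
  obtain ⟨a1⟩ := key hS (hI' 0)
  obtain ⟨a2⟩ := key hS1 (hI 0)
  -- sections of the cokernel
  have hker2 : LinearMap.ker (hhMap A S2.g 0) = LinearMap.range (hhMap A S2.f 0) := by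
    ext x
    exact map_g_eq_zero_iff (shortExact_toAb hS2) 0 x
  have hsurj2 : Function.Surjective (hhMap A S2.g 0) := fun x =>
    (δH_eq_zero_iff (shortExact_toAb hS2) 0 x).1 ((show Subsingleton (Coh.HH X S2.X₁ 1) from hC1).elim _ _)
  let a3 := (Submodule.quotEquivOfEq _ _ hker2.symm).trans ((hhMap A S2.g 0).quotKerEquivOfSurjective hsurj2)
  -- comparison
  have hrange : (LinearMap.range (hhMap A S.g 0)).map (pushH0 A g hg S.X₃ : _ →ₗ[A] _) =
      LinearMap.range ((hhMap A S2.f 0).comp (hhMap A S1.g 0)) := by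
    have hfac : ∀ w, hhMap A S2.f 0 (hhMap A S1.g 0 w) = hhMap A φ 0 w := fun w => by
      rw [← hhMap_comp]
      exact congrArg (fun t => hhMap A t 0 w) (Abelian.image.fac φ)
    ext y
    constructor
    · rintro ⟨_, ⟨x, rfl⟩, rfl⟩
      exact ⟨pushH0 A g hg S.X₂ x, (hfac _).trans (pushH0_natural A g hg S.g x).symm⟩
    · rintro ⟨w, rfl⟩
      obtain ⟨x, rfl⟩ := (pushH0 A g hg S.X₂).surjective w
      exact ⟨_, ⟨x, rfl⟩, (pushH0_natural A g hg S.g x).trans (hfac _).symm⟩
  let a4 := Submodule.Quotient.equiv _ _ (pushH0 A g hg S.X₃) hrange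
  have hinj : Function.Injective (hhMap A S2.f 0) := map_f_injective (shortExact_toAb hS2)
  rw [← a1.length_eq, a4.length_eq, length_quotient_comp _ _ hinj, a2.length_eq, a3.length_eq,
    (hhEquiv A e1 0).length_eq]

end Groth.Agent.ModLeray1
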