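import Groth.Agent.TMul.GlobGen
import Groth.Agent.CohFinite.RPushVanish
import Groth.Agent.CohQC.RpushModules
import Groth.Agent.PtBlow.Birat
import Groth.Prelude.Def_Curv2
import Groth.Prelude.Def_Coh

/-!
Higher direct images vanish over the isomorphism locus; modules living on finitely many closed points are
globally generated.
-/

set_option autoImplicit false
set_option backward.isDefEq.respectTransparency false
set_option linter.style.haveILetI false

universe u

open CategoryTheory CategoryTheory.Limits AlgebraicGeometry TopologicalSpace Opposite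
open Groth.Agent.QC (res res_res res_self section_eq_of_locally)
open TMul

noncomputable section

namespace Groth.Agent.ModLeray1

variable {X : Scheme.{u}}

theorem nontrivial_stalk_mem {G : X.Modules} {S : Set X} (hS : IsClosed S)
    (hG : ∀ (W : X.Opens) (s : Γ(G, W)), (∀ x ∈ W, x ∉ S) → s = 0) (x : X)
    (hx : Nontrivial (G.presheaf.stalk x)) : x ∈ S := by
  by_contra hxS
  have h0 : ∀ z : G.presheaf.stalk x, z = 0 := fun z => by
    obtain ⟨U, hxU, s, rfl⟩ := G.presheaf.germ_exist (x := x) z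
    let W : X.Opens := U ⊓ ⟨Sᶜ, hS.isOpen_compl⟩
    have hs : res G (inf_le_left : W ≤ U) s = 0 := hG W _ fun y hy => hy.2
    rw [← G.presheaf.germ_res_apply (homOfLE (inf_le_left : W ≤ U)) x ⟨hxU, hxS⟩ s]
    exact (congrArg (G.presheaf.germ W x ⟨hxU, hxS⟩) hs).trans (map_zero _)
  obtain ⟨a, b, hab⟩ := hx.exists_pair_ne
  exact hab ((h0 a).trans (h0 b).symm)

theorem isGloballyGenerated_of_finite_supp {G : X.Modules} {S : Set X} (hSf : S.Finite)
    (hS1 : ∀ x ∈ S, IsClosed ({x} : Set X))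
    (hG : ∀ (W : X.Opens) (s : Γ(G, W)), (∀ x ∈ W, x ∉ S) → s = 0) :
    Curv2.IsGloballyGenerated G := by
  let T : Γ(G, ⊤) → (SheafOfModules.unit X.ringCatSheaf ⟶ G) := fun t => homOf t
  let p : (SheafOfModules.free (R := X.ringCatSheaf) Γ(G, ⊤) : X.Modules) ⟶ G := Sigma.desc T
  refine ⟨Γ(G, ⊤), p, InvGen.epi_of_locally p fun U t x hxU => ?_⟩
  have hclosed : IsClosed (S \ {x}) := by
    rw [← Set.biUnion_of_singleton (S \ {x})]
    exact Set.Finite.isClosed_biUnion (hSf.subset Set.sdiff_subset) fun y hy => hS1 y hy.1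
  let W : X.Opens := U ⊓ ⟨(S \ {x})ᶜ, hclosed.isOpen_compl⟩
  have hxW : x ∈ W := ⟨hxU, fun h => h.2 rfl⟩
  by_cases hxS : x ∈ S
  · let V : Bool → X.Opens := fun b => bif b then W else ⟨({x} : Set X)ᶜ, (hS1 x hxS).isOpen_compl⟩
    let f : ∀ b, Γ(G, V b) := fun b => match b with
      | true => res G (inf_le_left : W ≤ U) t
      | false => 0
    obtain ⟨a, ha, -⟩ := TopCat.Sheaf.existsUnique_gluing' (Groth.Agent.QC.abSheaf G) V ⊤
      (fun o => homOfLE le_top) (fun y _ => Opens.mem_iSup.mpr (by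
        by_cases hy : y = x
        · exact ⟨true, hy ▸ hxW⟩
        · exact ⟨false, hy⟩)) f (fun o o' => by
        suffices key : ∀ (P : X.Opens) (h1 : P ≤ V o) (h2 : P ≤ V o'), res G h1 (f o) = res G h2 (f o') from
          key _ inf_le_left inf_le_right
        intro P h1 h2
        have key2 : ∀ Q : X.Opens, Q ≤ V true → Q ≤ V false → ∀ z ∈ Q, z ∉ S := fun Q q1 q2 z hz hzS =>
          (q1 hz).2 ⟨hzS, q2 hz⟩
        cases o <;> cases o'
        · rfl
        · exact (hG P (res G h1 (f false)) (key2 P h2 h1)).trans (hG P (res G h2 (f true)) (key2 P h2 h1)).symm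
        · exact (hG P (res G h1 (f true)) (key2 P h1 h2)).trans (hG P (res G h2 (f false)) (key2 P h1 h2)).symm
        · rfl)
    let ι : Coh.structureModule X ⟶ (SheafOfModules.free (R := X.ringCatSheaf) Γ(G, ⊤) : X.Modules) :=
      Sigma.ι (fun _ : Γ(G, ⊤) => SheafOfModules.unit X.ringCatSheaf) a
    refine ⟨W, inf_le_left, hxW, val ι W, ?_⟩
    rw [← val_comp]
    have hιp : ι ≫ p = homOf a := Sigma.ι_desc _ a
    rw [hιp, val_homOf]
    exact ha true
  · refine ⟨W, inf_le_left, hxW, 0, ?_⟩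
    rw [map_zero]
    exact (hG W _ fun y hy hyS => hy.2 ⟨hyS, fun h => hxS (h ▸ hyS)⟩).symm

theorem isIso_restrict_of_le_isoLocus {Y : Scheme.{u}} (g : X ⟶ Y) {V : Y.Opens} (hV : V ≤ PtBlow.isoLocus g) :
    IsIso (g ∣_ V) := by
  set L := PtBlow.isoLocus g with hL
  haveI : IsIso (g ∣_ L) := BiratCodimTwo.isIso_iSup g
  rw [← MorphismProperty.isomorphisms.iff,
    ← (MorphismProperty.isomorphisms Scheme).arrow_mk_iso_iff (morphismRestrictRestrict g L (L.ι ⁻¹ᵁ V) ≪≫
      morphismRestrictEq g (show L.ι ''ᵁ L.ι ⁻¹ᵁ V = V by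
        rw [Scheme.Hom.image_preimage_eq_opensRange_inf, Scheme.Opens.opensRange_ι]
        exact inf_eq_right.2 hV))]
  exact MorphismProperty.isomorphisms.infer_property _

/-- The higher direct images live off the isomorphism locus. -/
theorem section_rpush_eq_zero {Y : Scheme.{u}} (g : X ⟶ Y) [QuasiCompact g] [QuasiSeparated g]
    [HasInjectiveResolutions X.Modules] (M : X.Modules) (hM : Coh.IsQCoh M) (q : ℕ)
    (W : Y.Opens) (s : Γ((Coh.Rpush g (q + 1)).obj M, W))
    (hW : ∀ y ∈ W, y ∉ (PtBlow.isoLocus g : Set Y)ᶜ) : s = 0 := by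
  refine section_eq_of_locally fun y hy => ?_
  obtain ⟨V, hV, hyV, hVW⟩ := exists_isAffineOpen_mem_and_subset (x := y) (U := W) hy
  refine ⟨V, hVW, hyV, ?_⟩
  rw [map_zero]
  haveI : IsIso (g ∣_ V) := isIso_restrict_of_le_isoLocus g fun z hz => not_not.1 (hW z (hVW hz))
  haveI : IsAffine V.toScheme := hV
  have hpre : IsAffineOpen (g ⁻¹ᵁ V) := IsAffine.of_isIso (g ∣_ V)
  haveI : M.IsQuasicoherent := hM
  haveI := CohQC.hu_vanish_of_isAffineOpen M hpre q
  obtain ⟨a⟩ := CohFinite.hu_equiv_sections g M hM hV (q + 1)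
  obtain ⟨e⟩ := CohQC.toAb_rpush_iso g M (q + 1)
  let e' := (((sheafToPresheaf _ _).mapIso e).app (op V)).addCommGroupIsoToAddEquiv.trans a.symm
  apply e'.injective
  exact Subsingleton.elim _ _

end Groth.Agent.ModLeray1
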